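import Cfsg.Agent.Lib.Cores.StableQuotient
import Cfsg.Agent.Lib.QdFree.Ascend
import Cfsg.Agent.Lib.FusionModels.PStableGroup
import Cfsg.Agent.Lib.FusionBasics.Transport
import Cfsg.Agent.Lib.FusionExamples.Basic

/-!
The core of the fusion system of a `p`-stable group, `p` odd, is centric.
-/

set_option autoImplicit false
set_option linter.style.haveILetI false

universe u

namespace CfsgLib.Cores

open Cfsg Cfsg.FusionSystem CfsgLib.FusionBasics
open CfsgLib.PushUp (cmap conj_mem_cmap)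

/-- In a `p`-stable group, `p` odd, the core of the fusion system contains its centralizer in the
Sylow subgroup. -/
theorem centralizer_fusionCore_le {G : Type u} [Group G] [Finite G] {p : ℕ} [Fact p.Prime]
    (hp : p ≠ 2) (hst : IsNormalizerPStable p G) (P : Sylow p G) :
    centralizerIn (P : Subgroup G) (groupFusionSystem (P : Subgroup G)).core ≤
      (groupFusionSystem (P : Subgroup G)).core := by
  set F := groupFusionSystem (P : Subgroup G) with hF
  set R := F.core with hRdef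
  have hR : F.IsNormal R := CfsgLib.FusionExamples.isNormal_core F
  have hRP : R ≤ (P : Subgroup G) := hR.1
  -- `N(R)` controls fusion
  have hctrl : ∀ (T : Subgroup G) (g : G), T ≤ (P : Subgroup G) → cmap g T ≤ (P : Subgroup G) →
      ∃ x ∈ Subgroup.normalizer (R : Set G), ∀ t ∈ T, x * t * x⁻¹ = g * t * g⁻¹ := by
    intro T g hT hg
    let φ : T →* G := (MulAut.conj g).toMonoidHom.comp T.subtype
    have hφ : φ ∈ F.Hom T := ⟨hT, fun t => hg (conj_mem_cmap (g := g) t.2), g, fun t => rfl⟩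
    obtain ⟨ψ, ⟨-, -, x, hx⟩, hψ, hψR⟩ := hR.2 T φ hφ
    refine ⟨x, Subgroup.mem_normalizer_fintype fun r hr => ?_, fun t ht => ?_⟩
    · exact hψR.le ⟨⟨r, Subgroup.mem_sup_right hr⟩, hr, hx _⟩
    · exact (hx ⟨t, Subgroup.mem_sup_left ht⟩).symm.trans (hψ ⟨t, ht⟩)
  have hPN : (P : Subgroup G) ≤ Subgroup.normalizer (R : Set G) := by
    intro s hs
    refine Subgroup.mem_normalizer_fintype fun r hr => ?_
    obtain ⟨x, hx, hxe⟩ := hctrl R s hRP (by
      rintro _ ⟨t, ht, rfl⟩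
      exact mul_mem (mul_mem hs (hRP ht)) (inv_mem hs))
    show s * r * s⁻¹ ∈ R
    rw [← hxe r hr]
    exact (Subgroup.mem_normalizer_iff.1 hx r).1 hr
  by_contra hne
  set H := Subgroup.normalizer (R : Set G) with hHdef
  haveI : (R.subgroupOf H).Normal := Subgroup.normal_in_normalizer
  let PH : Sylow p H := P.subtype hPN
  have hRH : R ≤ H := Subgroup.le_normalizer
  have hRp : IsPGroup p (R.subgroupOf H) :=
    ((P.2.to_le hRP)).of_equiv (Subgroup.subgroupOfEquivOfLe hRH).symm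
  obtain ⟨R', hlt, hR'P, hPR', hctrl'⟩ := CfsgLib.QdFree.exists_larger_control hp
    (isStableClass_isNormalizerPStable_odd hp) (CfsgLib.Replacement.isNormalizerPStable_subgroup H hst) PH
    (Q := R.subgroupOf H) hRp (fun hle => hne fun c hc => by
      have : (⟨c, hPN hc.1⟩ : H) ∈ R.subgroupOf H := hle ⟨by
        rw [Sylow.coe_subtype]; exact hc.1, Subgroup.mem_centralizer_iff.2 fun q hq =>
          Subtype.ext (Subgroup.mem_centralizer_iff.1 hc.2 _ hq)⟩
      exact this)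
  set W := R'.map H.subtype with hW
  have hWP : W ≤ (P : Subgroup G) := by
    rintro _ ⟨r, hr, rfl⟩
    have := hR'P hr
    rwa [Sylow.coe_subtype] at this
  have hWn : F.IsNormal W := by
    refine ⟨hWP, fun T φ hφ => ?_⟩
    obtain ⟨hT, hφS, g, hg⟩ := hφ
    obtain ⟨x, hx, hxe⟩ := hctrl T g hT (by
      rintro _ ⟨t, ht, rfl⟩
      show g * t * g⁻¹ ∈ (P : Subgroup G)
      rw [← hg ⟨t, ht⟩]
      exact hφS _)
    obtain ⟨y, hy, hye⟩ := hctrl' (T.subgroupOf H)
      (by rw [Sylow.coe_subtype]; exact fun t ht => hT ht) ⟨x, hx⟩ (by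
        rintro _ ⟨t, ht, rfl⟩
        rw [Sylow.coe_subtype]
        show x * (t : G) * x⁻¹ ∈ (P : Subgroup G)
        rw [hxe _ (Subgroup.mem_subgroupOf.1 ht), ← hg ⟨(t : G), Subgroup.mem_subgroupOf.1 ht⟩]
        exact hφS _)
    have hyW : ∀ w ∈ W, (y : G) * w * (y : G)⁻¹ ∈ W := by
      rintro _ ⟨r, hr, rfl⟩
      exact ⟨y * r * y⁻¹, (Subgroup.mem_normalizer_iff.1 hy r).1 hr, rfl⟩
    have hTe : ∀ t : T, φ t = (y : G) * (t : G) * (y : G)⁻¹ := fun t => by
      rw [hg, ← hxe _ t.2]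
      exact (congrArg Subtype.val (hye ⟨t, hPN (hT t.2)⟩ t.2)).symm
    have hle : T ⊔ W ≤ (P : Subgroup G).comap (MulAut.conj (y : G)).toMonoidHom :=
      sup_le (fun t ht => show (y : G) * t * (y : G)⁻¹ ∈ (P : Subgroup G) from hTe ⟨t, ht⟩ ▸ hφS _)
        (fun w hw => hWP (hyW w hw))
    refine ⟨(MulAut.conj (y : G)).toMonoidHom.comp (T ⊔ W).subtype,
      ⟨sup_le hT hWP, fun z => hle z.2, y, fun _ => rfl⟩, fun t => (hTe t).symm, ?_⟩
    refine le_antisymm ?_ fun w hw => ?_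
    · rintro _ ⟨z, hz, rfl⟩
      exact hyW _ hz
    · obtain ⟨r, hr, rfl⟩ := hw
      have hr' : ((y⁻¹ * r * y : H) : G) ∈ W :=
        ⟨y⁻¹ * r * y, (Subgroup.mem_normalizer_iff''.1 hy r).1 hr, rfl⟩
      refine ⟨⟨_, Subgroup.mem_sup_right hr'⟩, hr', ?_⟩
      · show (y : G) * ((y : G)⁻¹ * r * y) * (y : G)⁻¹ = r
        group
  have hWR : W ≤ R := CfsgLib.FusionExamples.isNormal_le_core hWn
  refine hlt.not_ge fun r hr => ?_
  exact hWR ⟨r, hr, rfl⟩

end CfsgLib.Cores
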