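import Cfsg.Agent.Lib.QdFree.ZJStable

/-!
`p` odd: `p`-stability in the normalizer form passes to the quotient by a normal `p`-subgroup
centralised by all `p'`-elements, so the `p`-stable groups form a stable class.
-/

set_option autoImplicit false
set_option linter.style.haveILetI false
set_option maxHeartbeats 800000

open scoped commutatorElement

universe u

namespace CfsgLib.Cores

open Cfsg CfsgLib.NormalPComplement
open CfsgLib.QdFree (units_rel one_add_pow commute_of_stable exists_dual_quadratic)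

/-- A biadditive form invariant under `α - γ` and its conjugate by `1 + α` is invariant under
`1 + α`, for a pair of matrix units `α`, `γ`. -/
theorem form_invariant_of_units {A Z : Type*} [AddCommGroup A] [AddCommGroup Z] (B : A → A → Z)
    (hl : ∀ a b c, B (a + b) c = B a c + B b c) (hr : ∀ a b c, B a (b + c) = B a b + B a c)
    {α γ : AddMonoid.End A} (hα : α * α = 0) (hγ : γ * γ = 0) (hαγ : α * γ + γ * α = 1)
    (hj : ∀ a b, B ((α - γ) a) ((α - γ) b) = B a b)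
    (hk : ∀ a b, B (((1 + α) * (α - γ) * (1 - α)) a) (((1 + α) * (α - γ) * (1 - α)) b) = B a b)
    (a b : A) : B ((1 + α) a) ((1 + α) b) = B a b := by
  have hnl : ∀ x y, B (-x) y = -B x y := fun x y =>
    map_neg (AddMonoidHom.mk' (fun z => B z y) fun u v => hl u v y) x
  have hnr : ∀ x y, B x (-y) = -B x y := fun x y => map_neg (AddMonoidHom.mk' (B x) (hr x)) y
  have hαα : ∀ x, α (α x) = 0 := fun x => congrArg (fun f : AddMonoid.End A => f x) hα
  have hγγ : ∀ x, γ (γ x) = 0 := fun x => congrArg (fun f : AddMonoid.End A => f x) hγ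
  have h1 : ∀ x, α (γ x) + γ (α x) = x := fun x => congrArg (fun f : AddMonoid.End A => f x) hαγ
  have ju : ∀ u, α u = 0 → (α - γ) u = -γ u := fun u hu => by
    show α u - γ u = _
    rw [hu, zero_sub]
  have jg : ∀ u, α u = 0 → (α - γ) (γ u) = u := fun u hu => by
    have h := h1 u
    rw [hu, map_zero, add_zero] at h
    show α (γ u) - γ (γ u) = u
    rw [hγγ, sub_zero, h]
  have ku : ∀ u, α u = 0 → ((1 + α) * (α - γ) * (1 - α)) u = -(γ u + u) := fun u hu => by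
    have h := h1 u
    rw [hu, map_zero, add_zero] at h
    show (1 + α) ((α - γ) (u - α u)) = _
    rw [hu, sub_zero, ju u hu, map_neg]
    show -(γ u + α (γ u)) = _
    rw [h]
  have mid : ∀ u v, α u = 0 → α v = 0 → B (γ u) v + B u (γ v) = 0 := fun u v hu hv => by
    have := hj (γ u) v
    rw [jg u hu, ju v hv, hnr] at this
    rw [← this, neg_add_cancel]
  have iso : ∀ u v, α u = 0 → α v = 0 → B u v = 0 := fun u v hu hv => by
    have h2 := hk u v
    rw [ku u hu, ku v hv, hnl, hnr, neg_neg, hl, hr, hr] at h2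
    have h3 := hj u v
    rw [ju u hu, ju v hv, hnl, hnr, neg_neg] at h3
    rw [h3, show B u v + B (γ u) v + (B u (γ v) + B u v) =
      (B (γ u) v + B u (γ v)) + (B u v + B u v) by abel, mid u v hu hv, zero_add] at h2
    exact (add_eq_left.1 h2)
  have hαv : ∀ x, α (α (γ x)) = 0 := fun x => hαα _
  have e : B (α a) b + B a (α b) = 0 := by
    conv_lhs =>
      arg 1
      arg 2
      rw [← h1 b]
    conv_lhs =>
      arg 2
      arg 1
      rw [← h1 a]
    rw [hr, hl, iso _ _ (hαα a) (hαv b), iso _ _ (hαv a) (hαα b), zero_add, zero_add]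
    rw [add_comm]
    exact mid _ _ (hαα a) (hαα b)
  show B (a + α a) (b + α b) = _
  rw [hl, hr, hr, iso _ _ (hαα a) (hαα b), add_zero, add_assoc, add_comm (B a (α b)), e, add_zero]

variable {X : Type*} [Group X] [Finite X] {p : ℕ} [hp : Fact p.Prime]

/-- Two elements acting quadratically modulo the fixed points of the `p'`-elements of the group they
generate act as a `p`-group, in a `p`-stable group, `p` odd. -/
theorem exists_pow_mem_centralizer_of_stable_odd (hp2 : p ≠ 2) (hst : IsNormalizerPStable p X)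
    {P : Subgroup X} (hP : IsPGroup p P) {g h : X} (hg : g ∈ Subgroup.normalizer (P : Set X))
    (hh : h ∈ Subgroup.normalizer (P : Set X))
    (hqg : ∀ v ∈ P, ∀ d ∈ Subgroup.closure ({g, h} : Set X), (orderOf d).Coprime p →
      Commute d ⁅⁅v, g⁆, g⁆)
    (hqh : ∀ v ∈ P, ∀ d ∈ Subgroup.closure ({g, h} : Set X), (orderOf d).Coprime p →
      Commute d ⁅⁅v, h⁆, h⁆)
    {c : X} (hc : c ∈ Subgroup.closure ({g, h} : Set X)) :
    ∃ k : ℕ, c ^ p ^ k ∈ Subgroup.centralizer (P : Set X) := by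
  classical
  set Y := Subgroup.closure ({g, h} : Set X) with hY
  set Y0 := Subgroup.closure {d : X | d ∈ Y ∧ (orderOf d).Coprime p} with hY0
  set F := Subgroup.centralizer (Y0 : Set X) with hF
  have hFmem : ∀ x : X, x ∈ F ↔ ∀ d ∈ Y, (orderOf d).Coprime p → Commute d x := by
    intro x
    rw [hF, hY0, Subgroup.centralizer_closure, Subgroup.mem_centralizer_iff]
    exact ⟨fun h d hd hd' => h d ⟨hd, hd'⟩, fun h d hd => h d hd.1 hd.2⟩
  by_contra hcon
  obtain ⟨k0, hk0⟩ := exists_pow_coprime_orderOf (p := p) (isOfFinOrder_of_finite c)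
  have hPF : ¬ P ≤ F := fun hle => hcon ⟨k0, Subgroup.mem_centralizer_iff.2 fun v hv =>
    (((hFmem v).1 (hle hv)) _ (pow_mem hc _) hk0).eq.symm⟩
  obtain ⟨P0, ⟨hP0P, hgP0, hhP0, hP0F⟩, hmin⟩ := (Set.toFinite {R : Subgroup X | R ≤ P ∧
    g ∈ Subgroup.normalizer (R : Set X) ∧ h ∈ Subgroup.normalizer (R : Set X) ∧ ¬ R ≤ F}).exists_minimal
    ⟨P, le_rfl, hg, hh, hPF⟩
  have hYle : ∀ {R : Subgroup X}, g ∈ Subgroup.normalizer (R : Set X) →
      h ∈ Subgroup.normalizer (R : Set X) → Y ≤ Subgroup.normalizer (R : Set X) := fun h1 h2 =>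
    (Subgroup.closure_le _).2 (by rintro x (rfl | rfl); exacts [h1, h2])
  have hYP0 := hYle hgP0 hhP0
  have hsub : ∀ R : Subgroup X, R ≤ P0 → R ≠ P0 → (∀ x ∈ Y, ∀ r ∈ R, x * r * x⁻¹ ∈ R) → R ≤ F := by
    intro R hR hne hinv
    by_contra hRF
    have hn : ∀ x ∈ Y, x ∈ Subgroup.normalizer (R : Set X) := fun x hx =>
      Subgroup.mem_normalizer_fintype (hinv x hx)
    exact hne (le_antisymm hR (hmin ⟨hR.trans hP0P, hn g (Subgroup.subset_closure (by simp)),
      hn h (Subgroup.subset_closure (by simp)), hRF⟩ hR))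
  have hcj : ∀ x ∈ Y, ∀ v ∈ P0, x * v * x⁻¹ ∈ P0 := fun x hx v hv =>
    (Subgroup.mem_normalizer_iff.1 (hYP0 hx) v).1 hv
  have hP0p : IsPGroup p P0 := hP.to_le hP0P
  set M := P0 ⊓ F with hM
  have hMp : IsPGroup p M := hP0p.to_le inf_le_left
  have hFinv : ∀ x ∈ Y, ∀ r ∈ F, x * r * x⁻¹ ∈ F := by
    intro x hx r hr
    refine (hFmem _).2 fun d hd hd' => ?_
    have := ((hFmem r).1 hr) (x⁻¹ * d * x) (mul_mem (mul_mem (inv_mem hx) hd) hx) (by
      have e : x⁻¹ * d * x = (MulAut.conj x⁻¹).toMonoidHom d := by simp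
      rw [e, orderOf_injective _ (MulAut.conj x⁻¹).injective]; exact hd')
    show d * (x * r * x⁻¹) = x * r * x⁻¹ * d
    calc d * (x * r * x⁻¹) = x * ((x⁻¹ * d * x) * r) * x⁻¹ := by group
      _ = x * (r * (x⁻¹ * d * x)) * x⁻¹ := by rw [this.eq]
      _ = x * r * x⁻¹ * d := by group
  have hYM : ∀ x ∈ Y, ∀ r ∈ M, x * r * x⁻¹ ∈ M := fun x hx r hr => ⟨hcj x hx r hr.1, hFinv x hx r hr.2⟩
  have hfixM : ∀ d ∈ Y0, ∀ m ∈ M, d * m * d⁻¹ = m := fun d hd m hm =>
    mul_inv_eq_iff_eq_mul.2 ((Subgroup.mem_centralizer_iff.1 hm.2) d hd)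
  have hY0Y : Y0 ≤ Y := (Subgroup.closure_le _).2 fun d hd => hd.1
  -- the derived subgroup is fixed
  haveI := hP0p.isNilpotent
  have hP0ne : Nontrivial P0 := by
    rw [Subgroup.nontrivial_iff_ne_bot]
    rintro rfl
    exact hP0F bot_le
  have hder : ∀ a ∈ P0, ∀ b ∈ P0, ⁅a, b⁆ ∈ M := by
    intro a ha b hb
    have hle : ⁅P0, P0⁆ ≤ P0 := Subgroup.commutator_le.2 fun a ha b hb =>
      mul_mem (mul_mem (mul_mem ha hb) (inv_mem ha)) (inv_mem hb)
    have hne : ⁅P0, P0⁆ ≠ P0 := by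
      intro he
      refine (IsSolvable.commutator_lt_top_of_nontrivial P0).ne ?_
      apply Subgroup.map_injective P0.subtype_injective
      rw [← MonoidHom.range_eq_map, Subgroup.range_subtype, commutator_def, Subgroup.map_commutator,
        ← MonoidHom.range_eq_map, Subgroup.range_subtype, he]
    refine ⟨hle (Subgroup.commutator_mem_commutator ha hb), hsub _ hle hne (fun x hx r hr => ?_)
      (Subgroup.commutator_mem_commutator ha hb)⟩
    have h1 : (⁅P0, P0⁆).map (MulAut.conj x).toMonoidHom ≤ ⁅P0, P0⁆ := by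
      rw [Subgroup.map_commutator]
      exact Subgroup.commutator_mono (by rintro _ ⟨v, hv, rfl⟩; exact hcj x hx v hv)
        (by rintro _ ⟨v, hv, rfl⟩; exact hcj x hx v hv)
    exact h1 ⟨r, hr, rfl⟩
  have hMnorm : ∀ v ∈ P0, ∀ m ∈ M, v * m * v⁻¹ ∈ M := fun v hv m hm => by
    have := mul_mem (hder v hv m hm.1) hm
    rwa [commutatorElement_def, inv_mul_cancel_right] at this
  have hstab : ∀ v ∈ P0, (∀ d ∈ Y, (orderOf d).Coprime p → d * v * d⁻¹ * v⁻¹ ∈ M) → v ∈ F := by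
    intro v hv hd
    refine (hFmem v).2 fun d hdY hd' => ?_
    exact mul_inv_eq_iff_eq_mul.1 (commute_of_stable hMp hd' (hd d hdY hd')
      (hfixM d (Subgroup.subset_closure ⟨hdY, hd'⟩) _ (hd d hdY hd')))
  have hcen : ∀ m ∈ M, ∀ v ∈ P0, Commute m v := by
    let R := P0 ⊓ Subgroup.centralizer (M : Set X)
    have hR : R = P0 := by
      by_contra hne
      have hRinv : ∀ x ∈ Y, ∀ r ∈ R, x * r * x⁻¹ ∈ R := fun x hx r hr =>
        ⟨hcj x hx r hr.1, Subgroup.mem_centralizer_iff.2 fun m hm => by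
          have h1 := (Subgroup.mem_centralizer_iff.1 hr.2) _ (by
            simpa using hYM x⁻¹ (inv_mem hx) m hm : x⁻¹ * m * x ∈ M)
          calc m * (x * r * x⁻¹) = x * ((x⁻¹ * m * x) * r) * x⁻¹ := by group
            _ = x * (r * (x⁻¹ * m * x)) * x⁻¹ := by rw [h1]
            _ = x * r * x⁻¹ * m := by group⟩
      have hRF := hsub R inf_le_left hne hRinv
      refine hP0F fun v hv => hstab v hv fun d hdY hd' => ?_
      have hd0 : d ∈ Y0 := Subgroup.subset_closure ⟨hdY, hd'⟩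
      have hu : v⁻¹ * (d * v * d⁻¹) ∈ R := by
        refine ⟨P0.mul_mem (P0.inv_mem hv) (hcj d hdY v hv), Subgroup.mem_centralizer_iff.2 fun m hm => ?_⟩
        have h1 := hfixM d hd0 m hm
        have h2 := hfixM d hd0 _ (hMnorm v hv m hm)
        have h3 : d * v * d⁻¹ * m * (d * v * d⁻¹)⁻¹ = v * m * v⁻¹ := by
          conv_lhs => rw [← h1]
          conv_rhs => rw [← h2]
          group
        calc m * (v⁻¹ * (d * v * d⁻¹)) = v⁻¹ * (v * m * v⁻¹) * (d * v * d⁻¹) := by group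
          _ = v⁻¹ * (d * v * d⁻¹ * m * (d * v * d⁻¹)⁻¹) * (d * v * d⁻¹) := by rw [h3]
          _ = v⁻¹ * (d * v * d⁻¹) * m := by group
      have := hMnorm v hv _ ⟨hu.1, hRF hu⟩
      rwa [show v * (v⁻¹ * (d * v * d⁻¹)) * v⁻¹ = d * v * d⁻¹ * v⁻¹ by group] at this
    intro m hm v hv
    exact (Subgroup.mem_centralizer_iff.1 (hR.symm ▸ hv : v ∈ R).2) m hm
  have hirrG : ∀ R : Subgroup X, M ≤ R → R ≤ P0 → (∀ x ∈ Y, ∀ r ∈ R, x * r * x⁻¹ ∈ R) →
      R = M ∨ R = P0 := by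
    intro R hMR hRP hinv
    by_contra hne
    push Not at hne
    exact hne.1 (le_antisymm (le_inf hRP (hsub R hRP hne.2 hinv)) hMR)
  -- exponent
  let M' : Subgroup P0 := M.subgroupOf P0
  haveI : M'.Normal := ⟨fun m hm v => hMnorm v v.2 m hm⟩
  letI : CommGroup (P0 ⧸ M') := { (inferInstance : Group (P0 ⧸ M')) with
    mul_comm := by
      rintro ⟨a⟩ ⟨b⟩
      refine QuotientGroup.eq.2 ?_
      show ((a * b)⁻¹ * (b * a) : P0) ∈ M'
      have := hder _ (inv_mem b.2) _ (inv_mem a.2)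
      rw [Subgroup.mem_subgroupOf]
      simpa [commutatorElement_def, mul_assoc] using this }
  let cjh : ∀ x ∈ Y, P0 →* P0 := fun x hx =>
    { toFun := fun v => ⟨x * v * x⁻¹, hcj x hx v v.2⟩
      map_one' := Subtype.ext (by simp)
      map_mul' := fun a b => Subtype.ext (by simp [mul_assoc]) }
  have hexp : ∀ v ∈ P0, v ^ p ∈ M := by
    let R := ((powMonoidHom p : P0 ⧸ M' →* P0 ⧸ M').ker.comap (QuotientGroup.mk' M')).map P0.subtype
    have hRmem : ∀ v : P0, (v : X) ∈ R ↔ (v : X) ^ p ∈ M := by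
      intro v
      rw [show (v : X) = P0.subtype v from rfl, Subgroup.mem_map_iff_mem P0.subtype_injective,
        Subgroup.mem_comap, MonoidHom.mem_ker, powMonoidHom_apply, ← map_pow,
        QuotientGroup.mk'_apply, QuotientGroup.eq_one_iff, Subgroup.mem_subgroupOf]
      rfl
    have hRP : R ≤ P0 := Subgroup.map_subtype_le _
    have hR : R = P0 := by
      rcases hirrG R (fun m hm => (hRmem ⟨m, hm.1⟩).2 (pow_mem hm p)) hRP (fun x hx r hr => by
        refine (hRmem ⟨_, hcj x hx r (hRP hr)⟩).2 ?_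
        show (x * r * x⁻¹) ^ p ∈ M
        rw [conj_pow]
        exact hYM x hx _ ((hRmem ⟨r, hRP hr⟩).1 hr)) with h1 | h1
      · exfalso
        apply hP0F
        intro v hv
        suffices v ∈ M from this.2
        obtain ⟨k, hk⟩ := hP0p ⟨v, hv⟩
        have : ∀ j, v ^ p ^ j ∈ M → v ∈ M := by
          intro j
          induction j with
          | zero => simp
          | succ j ih =>
            intro hj
            refine ih (h1.le ((hRmem ⟨_, pow_mem hv (p ^ j)⟩).2 ?_))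
            rwa [← pow_mul, ← pow_succ]
        exact this k (by rw [show v ^ p ^ k = 1 from congrArg Subtype.val hk]; exact one_mem _)
      · exact h1
    exact fun v hv => (hRmem ⟨v, hv⟩).1 (hR.symm ▸ hv)
  -- the representation on `P0 / M`
  let A := Additive (P0 ⧸ M')
  let mk : P0 → A := fun v => Additive.ofMul (v : P0 ⧸ M')
  have hmk : ∀ a b : P0, mk a = mk b ↔ (a : X)⁻¹ * b ∈ M := fun a b => QuotientGroup.eq
  have hmk0 : ∀ a : P0, mk a = 0 ↔ (a : X) ∈ M := fun a => QuotientGroup.eq_one_iff a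
  have hmk1 : ∀ a b : P0, mk a = mk b ↔ (b : X) * (a : X)⁻¹ ∈ M := fun a b => by
    rw [hmk]
    exact ⟨fun h => by simpa [mul_assoc] using hMnorm _ a.2 _ h,
      fun h => by simpa [mul_assoc] using hMnorm _ (inv_mem a.2) _ h⟩
  let ρ : Y →* AddMonoid.End A :=
    { toFun := fun x => (QuotientGroup.map M' M' (cjh x x.2) (fun m hm => hYM x x.2 m hm)).toAdditive
      map_one' := by
        refine AddMonoidHom.ext ?_
        rintro ⟨v⟩
        exact congrArg mk (Subtype.ext (by simp [cjh]) : cjh 1 (one_mem _) v = v)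
      map_mul' := fun a b => by
        refine AddMonoidHom.ext ?_
        rintro ⟨v⟩
        exact congrArg mk (Subtype.ext (by simp [cjh, mul_assoc]) :
          cjh (a * b : Y) (a * b).2 v = cjh a a.2 (cjh b b.2 v)) }
  have hρ : ∀ (x : Y) (v : P0), ρ x (mk v) = mk ⟨(x : X) * v * (x : X)⁻¹, hcj x x.2 v v.2⟩ :=
    fun x v => rfl
  have hAp : ∀ a : A, p • a = 0 := by
    rintro ⟨v⟩
    exact (hmk0 (v ^ p)).2 (hexp v v.2)
  have hquad : ∀ (x : Y), (∀ v ∈ P, ∀ d ∈ Y, (orderOf d).Coprime p → Commute d ⁅⁅v, (x : X)⁆, (x : X)⁆) →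
      (ρ x - 1) * (ρ x - 1) = 0 := by
    intro x hx
    refine AddMonoidHom.ext ?_
    rintro ⟨v⟩
    show ρ x (ρ x (mk v) - mk v) - (ρ x (mk v) - mk v) = 0
    rw [hρ]
    have hw : ⁅(v : X), (x : X)⁆ ∈ P0 := by
      have := mul_mem v.2 (hcj x x.2 _ (inv_mem v.2))
      simpa [commutatorElement_def, mul_assoc] using this
    have he : mk ⟨(x : X) * v * (x : X)⁻¹, hcj x x.2 v v.2⟩ - mk v =
        mk ⟨⁅(v : X), (x : X)⁆⁻¹, inv_mem hw⟩ := by
      rw [sub_eq_iff_eq_add]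
      refine congrArg mk (Subtype.ext ?_ : (⟨_, hcj x x.2 v v.2⟩ : P0) = ⟨_, inv_mem hw⟩ * v)
      simp [commutatorElement_def, mul_assoc]
    rw [he, hρ, sub_eq_zero, hmk1]
    refine ⟨?_, ?_⟩
    · exact P0.mul_mem (P0.inv_mem hw) (P0.inv_mem (hcj x x.2 _ (P0.inv_mem hw)))
    · have h1 := inv_mem ((hFmem _).2 fun d hd hd' => hx v (hP0P v.2) d hd hd')
      have h2 := hMnorm _ (inv_mem hw) _ ⟨?_, h1⟩
      · simpa [commutatorElement_def, mul_assoc] using h2.2
      · refine P0.inv_mem ?_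
        have := P0.mul_mem hw (hcj x x.2 _ (inv_mem hw))
        simpa [commutatorElement_def, mul_assoc] using this
  let gY : Y := ⟨g, Subgroup.subset_closure (by simp)⟩
  let hY' : Y := ⟨h, Subgroup.subset_closure (by simp)⟩
  set α := ρ gY - 1 with hαdef
  set β := ρ hY' - 1 with hβdef
  have hα : α * α = 0 := hquad gY hqg
  have hβ : β * β = 0 := hquad hY' hqh
  have hρg : ρ gY = 1 + α := by rw [hαdef]; abel
  have hρh : ρ hY' = 1 + β := by rw [hβdef]; abel
  have hEp : ∀ f : AddMonoid.End A, p • f = 0 := fun f => AddMonoidHom.ext fun a => hAp (f a)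
  have hmon : ∀ y : Y, ρ y ∈ Submonoid.closure ({ρ gY, ρ hY'} : Set (AddMonoid.End A)) := by
    rintro ⟨y, hy⟩
    have hy' : y ∈ Submonoid.closure ({g, h} : Set X) := by
      rw [← Subgroup.closure_toSubmonoid_of_finite]; exact hy
    induction hy' using Submonoid.closure_induction with
    | mem z hz => rcases hz with rfl | rfl <;> exact Submonoid.subset_closure (by simp [gY, hY'])
    | one => exact (map_one ρ).symm ▸ one_mem _
    | mul a b ha hb iha ihb =>
      have ha' : a ∈ Y := by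
        rw [hY, ← Subgroup.mem_toSubmonoid, Subgroup.closure_toSubmonoid_of_finite]; exact ha
      have hb' : b ∈ Y := by
        rw [hY, ← Subgroup.mem_toSubmonoid, Subgroup.closure_toSubmonoid_of_finite]; exact hb
      rw [show (⟨a * b, _⟩ : Y) = ⟨a, ha'⟩ * ⟨b, hb'⟩ from rfl, map_mul]
      exact mul_mem (iha ha') (ihb hb')
  have hα0 : α ≠ 0 := by
    intro h0
    apply hP0F
    intro v hv
    refine hstab v hv fun d hdY hd' => ?_
    have h1 : ρ ⟨d, hdY⟩ = 1 := by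
      have h2 := hmon ⟨d, hdY⟩
      rw [hρg, h0, add_zero, Submonoid.closure_insert_one, Submonoid.mem_closure_singleton] at h2
      obtain ⟨n, hn⟩ := h2
      have h3 : ρ ⟨d, hdY⟩ ^ p = 1 := by
        rw [← hn, ← pow_mul, mul_comm, pow_mul, hρh, one_add_pow hβ, hEp, add_zero, one_pow]
      have h4 : ρ ⟨d, hdY⟩ ^ orderOf d = 1 := by
        rw [← map_pow, ← map_one ρ]
        exact congrArg ρ (Subtype.ext (by simp [pow_orderOf_eq_one]))
      exact orderOf_eq_one_iff.1 (Nat.eq_one_of_dvd_coprimes hd'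
        (orderOf_dvd_of_pow_eq_one h4) (orderOf_dvd_of_pow_eq_one h3))
    refine (hmk1 ⟨v, hv⟩ ⟨d * v * d⁻¹, hcj d hdY v hv⟩).1 ?_
    rw [← hρ ⟨d, hdY⟩ ⟨v, hv⟩, h1]
    rfl
  have hirr : ∀ W : AddSubgroup A, (∀ x ∈ W, α x ∈ W) → (∀ x ∈ W, β x ∈ W) → W = ⊥ ∨ W = ⊤ := by
    intro W hWa hWb
    let R := ((AddSubgroup.toSubgroup' W).comap (QuotientGroup.mk' M')).map P0.subtype
    have hRP : R ≤ P0 := Subgroup.map_subtype_le _
    have hRmem : ∀ v : P0, (v : X) ∈ R ↔ mk v ∈ W := fun v =>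
      Subgroup.mem_map_iff_mem P0.subtype_injective
    have hn : ∀ x : Y, (∀ a ∈ W, (ρ x - 1) a ∈ W) → (x : X) ∈ Subgroup.normalizer (R : Set X) := by
      intro x hx
      refine Subgroup.mem_normalizer_fintype fun r hr => ?_
      refine (hRmem ⟨_, hcj x x.2 r (hRP hr)⟩).2 ?_
      rw [← hρ x ⟨r, hRP hr⟩]
      have h1 := hx _ ((hRmem ⟨r, hRP hr⟩).1 hr)
      have h2 := add_mem h1 ((hRmem ⟨r, hRP hr⟩).1 hr)
      convert h2 using 1
      exact (sub_add_cancel _ _).symm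
    have hYR := hYle (hn gY hWa) (hn hY' hWb)
    rcases hirrG R (fun m hm => (hRmem ⟨m, hm.1⟩).2 ((hmk0 ⟨m, hm.1⟩).2 hm ▸ zero_mem _)) hRP
      (fun x hx r hr => (Subgroup.mem_normalizer_iff.1 (hYR hx) r).1 hr) with e | e
    · refine Or.inl (eq_bot_iff.2 ?_)
      rintro ⟨v⟩ hv
      exact AddSubgroup.mem_bot.2 ((hmk0 v).2 (e.le ((hRmem v).2 hv)))
    · refine Or.inr (eq_top_iff.2 ?_)
      rintro ⟨v⟩ -
      exact (hRmem v).1 (e.symm ▸ v.2)
  obtain ⟨γ, hγ, hαγ, hmem⟩ := exists_dual_quadratic hp2 hAp hα hβ hα0 hirr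
  rw [← hρg, ← hρh, ← Set.image_pair, ← MonoidHom.map_mclosure] at hmem
  obtain ⟨eY, -, hρe⟩ := hmem
  -- lifting into the subgroup generated by `p'`-elements
  have hlift : ∀ (y : Y) (N : ℕ), N.Coprime p → ρ y ^ N = 1 → ∃ z : Y, (z : X) ∈ Y0 ∧ ρ z = ρ y := by
    intro y N hN hy
    obtain ⟨k, hk⟩ := exists_pow_coprime_orderOf (p := p) (isOfFinOrder_of_finite (y : X))
    have hcop : (p ^ k).Coprime (orderOf (ρ y)) :=
      (Nat.Coprime.coprime_dvd_left (orderOf_dvd_of_pow_eq_one hy) hN).symm.pow_left k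
    obtain ⟨j, hj⟩ := exists_pow_eq_self_of_coprime hcop
    refine ⟨(y ^ p ^ k) ^ j, ?_, by rw [map_pow, map_pow, hj]⟩
    rw [Subgroup.coe_pow, Subgroup.coe_pow]
    exact Y0.pow_mem (Subgroup.subset_closure ⟨pow_mem y.2 _, hk⟩) _
  have hn1 : ∀ a : AddMonoid.End A, (-1) * a = -a := fun a => AddMonoidHom.ext fun _ => rfl
  have hn2 : ∀ a : AddMonoid.End A, a * (-1) = -a := fun a => AddMonoidHom.ext fun x => map_neg a x
  have hpodd : Odd p := hp.out.odd_of_ne_two hp2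
  have hneg : ∀ {ε : AddMonoid.End A}, ε * ε = 0 → (1 + ε) ^ (p - 1) = 1 - ε := by
    intro ε hε
    rw [one_add_pow hε, sub_eq_add_neg]
    congr 1
    rw [eq_neg_iff_add_eq_zero, ← succ_nsmul,
      show p - 1 + 1 = p by have := hp.out.two_le; omega, hEp]
  have hcop4 : Nat.Coprime 4 p := by
    rw [show 4 = 2 ^ 2 by norm_num]
    exact ((Nat.coprime_primes Nat.prime_two hp.out).2 (Ne.symm hp2)).pow_left 2

  -- an element inverting `P0 / M`, fixing `M`
  obtain ⟨hsq, hw, -⟩ := units_rel hα hγ hαγ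
  have hρw : ρ (gY * eY ^ (p - 1) * gY) = α - γ := by
    rw [map_mul, map_mul, map_pow, hρg, hρe, hneg hγ, hw]
  obtain ⟨J, hJ0, hρJ⟩ := hlift (gY * eY ^ (p - 1) * gY) 4 hcop4 (by
    rw [hρw, show 4 = 2 * 2 by norm_num, pow_mul, sq (α - γ), hsq, sq (-1), hn1, neg_neg])
  rw [hρw] at hρJ
  set t := J * J with ht
  have hρt : ρ t = -1 := by rw [ht, map_mul, hρJ, hsq]
  have ht0 : (t : X) ∈ Y0 := mul_mem hJ0 hJ0
  have hρti : ρ t⁻¹ = -1 := by
    have h1 := map_mul ρ t t⁻¹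
    rw [mul_inv_cancel, map_one, hρt, hn1] at h1
    exact (neg_eq_iff_eq_neg.1 h1.symm)
  have hY0n : ∀ x ∈ Y, ∀ d ∈ Y0, x * d * x⁻¹ ∈ Y0 := fun x hx d hd => by
    have hle : Y0 ≤ Y0.comap (MulAut.conj x).toMonoidHom := by
      rw [hY0, Subgroup.closure_le]
      rintro e ⟨he, he'⟩
      refine Subgroup.subset_closure ⟨mul_mem (mul_mem hx he) (inv_mem hx), ?_⟩
      rw [orderOf_injective (MulAut.conj x).toMonoidHom (MulAut.conj x).injective]
      exact he'
    exact hle hd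
  have htM : ∀ v ∈ P0, (t : X) * v * (t : X)⁻¹ * v ∈ M := fun v hv => by
    have := (hmk1 ⟨v⁻¹, inv_mem hv⟩ ⟨_, hcj t t.2 v hv⟩).1 (by rw [← hρ t ⟨v, hv⟩, hρt]; rfl)
    simpa using this
  -- every element can be adjusted to commute with `t`
  have hadj : ∀ g2 : Y, ∃ g3 : Y, ρ g3 = ρ g2 ∧ ∀ v ∈ P0,
      (t : X) * ((g3 : X) * v * (g3 : X)⁻¹) * (t : X)⁻¹ =
        (g3 : X) * ((t : X) * v * (t : X)⁻¹) * (g3 : X)⁻¹ := by
    intro g2
    set k := g2⁻¹ * t * g2 * t⁻¹ with hkdef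
    have hρk : ρ k = 1 := by
      rw [hkdef, map_mul, map_mul, map_mul, hρt, hρti, hn2 (ρ g2⁻¹), ← hn1 (ρ g2⁻¹), mul_assoc (-1),
        ← map_mul, inv_mul_cancel, map_one, mul_one, hn2, neg_neg]
    have hk0 : (k : X) ∈ Y0 := mul_mem (by simpa using hY0n _ (g2⁻¹).2 _ ht0) (inv_mem ht0)
    have hkM : ∀ v ∈ P0, (k : X) * v * (k : X)⁻¹ * v⁻¹ ∈ M := fun v hv =>
      (hmk1 ⟨v, hv⟩ ⟨_, hcj k k.2 v hv⟩).1 (by rw [← hρ k ⟨v, hv⟩, hρk]; rfl)
    set dl : X → X := fun v => (k : X) * v * (k : X)⁻¹ * v⁻¹ with hdl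
    have hkpow : ∀ v ∈ P0, ∀ n : ℕ, (k : X) ^ n * v * ((k : X) ^ n)⁻¹ = dl v ^ n * v := by
      intro v hv n
      induction n with
      | zero => simp
      | succ n ih =>
        rw [pow_succ' (k : X), show (k : X) * (k : X) ^ n * v * ((k : X) * (k : X) ^ n)⁻¹ =
          (k : X) * ((k : X) ^ n * v * ((k : X) ^ n)⁻¹) * (k : X)⁻¹ by group, ih,
          show (k : X) * (dl v ^ n * v) * (k : X)⁻¹ =
            ((k : X) * dl v ^ n * (k : X)⁻¹) * ((k : X) * v * (k : X)⁻¹) by group,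
          hfixM _ hk0 _ (pow_mem (hkM v hv) n), pow_succ, mul_assoc]
        simp only [hdl]
        group
    have hdlp : ∀ v ∈ P0, dl v ^ p = 1 := by
      intro v hv
      have h1 := hfixM _ hk0 _ (hexp v hv)
      rw [← conj_pow, show (k : X) * v * (k : X)⁻¹ = dl v * v by simp [hdl],
        (hcen _ (hkM v hv) v hv).mul_pow, mul_eq_right] at h1
      exact h1
    obtain ⟨j, hj⟩ : ∃ j, j + j = p + 1 := by
      obtain ⟨i, hi⟩ := hpodd
      exact ⟨i + 1, by omega⟩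
    set g3 := g2 * k ^ j with hg3
    refine ⟨g3, by rw [hg3, map_mul, map_pow, hρk, one_pow, mul_one], ?_⟩
    intro v hv
    set u := (t : X) * v * (t : X)⁻¹ with hu
    have huP : u ∈ P0 := hcj t t.2 v hv
    have hdlu : dl u = (dl v)⁻¹ := by
      obtain ⟨m, hm, hue⟩ : ∃ m ∈ M, u = m * v⁻¹ := ⟨u * v, htM v hv, by group⟩
      have hc := hcen _ (hkM v hv) v hv
      simp only [hdl]
      rw [hue, show (k : X) * (m * v⁻¹) * (k : X)⁻¹ =
        ((k : X) * m * (k : X)⁻¹) * ((k : X) * v * (k : X)⁻¹)⁻¹ by group, hfixM _ hk0 m hm]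
      have e := hcen m hm ((k : X) * v * (k : X)⁻¹) (hcj k k.2 v hv)
      have e2 := hcen m hm v hv
      calc m * ((k : X) * v * (k : X)⁻¹)⁻¹ * (m * v⁻¹)⁻¹
          = (m * ((k : X) * v * (k : X)⁻¹)⁻¹) * (v * m⁻¹) := by group
        _ = (((k : X) * v * (k : X)⁻¹)⁻¹ * m) * (m⁻¹ * v) := by
            rw [e.inv_right.eq, e2.symm.inv_right.eq]
        _ = ((k : X) * v * (k : X)⁻¹)⁻¹ * v := by group
        _ = v⁻¹ * (dl v)⁻¹ * v := by simp [hdl, mul_assoc]
        _ = (dl v)⁻¹ := by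
            rw [show v⁻¹ * (dl v)⁻¹ = (dl v)⁻¹ * v⁻¹ from hc.inv_inv.symm.eq, inv_mul_cancel_right]
    have hj2 : dl v ^ j = (dl v ^ j)⁻¹ * dl v := by
      rw [eq_inv_mul_iff_mul_eq, ← pow_add, hj, pow_succ, hdlp v hv, one_mul]
    have hL : (g3 : X) * v * (g3 : X)⁻¹ = (g2 : X) * (dl v ^ j * v) * (g2 : X)⁻¹ := by
      rw [← hkpow v hv j, hg3, Subgroup.coe_mul, Subgroup.coe_pow]
      group
    have hR : (g3 : X) * u * (g3 : X)⁻¹ = (g2 : X) * ((dl v ^ j)⁻¹ * u) * (g2 : X)⁻¹ := by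
      rw [← inv_pow, ← hdlu, ← hkpow u huP j, hg3, Subgroup.coe_mul, Subgroup.coe_pow]
      group
    have hdM : dl v ^ j ∈ M := pow_mem (hkM v hv) j
    have hkt : (t : X) * (g2 : X) = (g2 : X) * (k : X) * (t : X) := by
      rw [hkdef]; simp only [Subgroup.coe_mul, Subgroup.coe_inv]; group
    rw [hL, hR]
    calc (t : X) * ((g2 : X) * (dl v ^ j * v) * (g2 : X)⁻¹) * (t : X)⁻¹
        = ((t : X) * (g2 : X)) * (dl v ^ j * v) * ((t : X) * (g2 : X))⁻¹ := by group
      _ = (g2 : X) * ((k : X) * ((t : X) * dl v ^ j * (t : X)⁻¹) * (k : X)⁻¹ *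
          ((k : X) * u * (k : X)⁻¹)) * (g2 : X)⁻¹ := by rw [hkt, hu]; group
      _ = (g2 : X) * (dl v ^ j * (dl u * u)) * (g2 : X)⁻¹ := by
          rw [hfixM _ ht0 _ hdM, hfixM _ hk0 _ hdM]
          simp [hdl, mul_assoc]
      _ = (g2 : X) * ((dl v ^ j)⁻¹ * u) * (g2 : X)⁻¹ := by
          have e : dl v ^ j * (dl v)⁻¹ = (dl v ^ j)⁻¹ := by
            conv_lhs => rw [hj2]
            group
          rw [hdlu, ← mul_assoc (dl v ^ j), e]
  -- commutators are a form on `P0 / M` with values in `M`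
  letI : CommGroup M := { (inferInstance : Group M) with
    mul_comm := fun a b => Subtype.ext (hcen a a.2 b b.2.1).eq }
  have hsurj : Function.Surjective mk := fun a => by
    obtain ⟨v, hv⟩ := QuotientGroup.mk'_surjective M' (Additive.toMul a)
    exact ⟨v, congrArg Additive.ofMul hv⟩
  let Bf : A → A → Additive M := fun a b => Additive.ofMul
    ⟨⁅((Function.surjInv hsurj a : P0) : X), ((Function.surjInv hsurj b : P0) : X)⁆,
      hder _ (Function.surjInv hsurj a).2 _ (Function.surjInv hsurj b).2⟩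
  have hcl : ∀ u ∈ P0, ∀ v ∈ P0, ∀ w ∈ P0, ⁅u * v, w⁆ = ⁅u, w⁆ * ⁅v, w⁆ := by
    intro u hu v hv w hw
    have h1 := (hcen _ (hder v hv w hw) u hu).eq
    have h2 := (hcen _ (hder v hv w hw) _ (hder u hu w hw).1).eq
    calc ⁅u * v, w⁆ = u * ⁅v, w⁆ * u⁻¹ * ⁅u, w⁆ := by simp only [commutatorElement_def]; group
      _ = ⁅v, w⁆ * ⁅u, w⁆ := by rw [← h1, mul_inv_cancel_right]
      _ = ⁅u, w⁆ * ⁅v, w⁆ := h2
  have hcr : ∀ u ∈ P0, ∀ v ∈ P0, ∀ w ∈ P0, ⁅u, v * w⁆ = ⁅u, v⁆ * ⁅u, w⁆ := by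
    intro u hu v hv w hw
    have h1 := (hcen _ (hder u hu w hw) v hv).eq
    calc ⁅u, v * w⁆ = ⁅u, v⁆ * (v * ⁅u, w⁆ * v⁻¹) := by simp only [commutatorElement_def]; group
      _ = _ := by rw [← h1, mul_inv_cancel_right]
  have hc1 : ∀ m ∈ M, ∀ w ∈ P0, ⁅m, w⁆ = 1 := fun m hm w hw =>
    commutatorElement_eq_one_iff_commute.2 (hcen m hm w hw)
  have hBmk : ∀ v w : P0, Bf (mk v) (mk w) = Additive.ofMul ⟨⁅(v : X), (w : X)⁆, hder _ v.2 _ w.2⟩ := by
    intro v w
    refine congrArg Additive.ofMul (Subtype.ext ?_)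
    set v' := Function.surjInv hsurj (mk v)
    set w' := Function.surjInv hsurj (mk w)
    have hv' := (hmk1 v v').1 (Function.surjInv_eq hsurj (mk v)).symm
    have hw' := (hmk1 w w').1 (Function.surjInv_eq hsurj (mk w)).symm
    show ⁅(v' : X), (w' : X)⁆ = _
    rw [show (v' : X) = ((v' : X) * (v : X)⁻¹) * v by group, hcl _ hv'.1 _ v.2 _ w'.2,
      hc1 _ hv' _ w'.2, one_mul, show (w' : X) = ((w' : X) * (w : X)⁻¹) * w by group,
      hcr _ v.2 _ hw'.1 _ w.2, ← commutatorElement_inv, hc1 _ hw' _ v.2, inv_one, one_mul]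
  have hBl : ∀ a b c, Bf (a + b) c = Bf a c + Bf b c := fun a b c => by
    obtain ⟨u, rfl⟩ := hsurj a
    obtain ⟨v, rfl⟩ := hsurj b
    obtain ⟨w, rfl⟩ := hsurj c
    rw [show mk u + mk v = mk (u * v) from rfl, hBmk, hBmk, hBmk]
    exact congrArg Additive.ofMul (Subtype.ext (hcl _ u.2 _ v.2 _ w.2))
  have hBr : ∀ a b c, Bf a (b + c) = Bf a b + Bf a c := fun a b c => by
    obtain ⟨u, rfl⟩ := hsurj a
    obtain ⟨v, rfl⟩ := hsurj b
    obtain ⟨w, rfl⟩ := hsurj c
    rw [show mk v + mk w = mk (v * w) from rfl, hBmk, hBmk, hBmk]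
    exact congrArg Additive.ofMul (Subtype.ext (hcr _ u.2 _ v.2 _ w.2))
  have hBρ : ∀ (x : Y), (x : X) ∈ Y0 → ∀ a b, Bf (ρ x a) (ρ x b) = Bf a b := fun x hx a b => by
    obtain ⟨u, rfl⟩ := hsurj a
    obtain ⟨v, rfl⟩ := hsurj b
    rw [hρ, hρ, hBmk, hBmk]
    refine congrArg Additive.ofMul (Subtype.ext ?_)
    show ⁅(x : X) * u * (x : X)⁻¹, (x : X) * v * (x : X)⁻¹⁆ = _
    rw [← conjugate_commutatorElement]
    exact hfixM _ hx _ (hder _ u.2 _ v.2)
  -- elements lifting `1 + ε` fix commutators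
  have hfixcomm : ∀ (ε δ : AddMonoid.End A), ε * ε = 0 → δ * δ = 0 → ε * δ + δ * ε = 1 →
      ∀ (J x : Y), (J : X) ∈ Y0 → ρ J = ε - δ → ρ x = 1 + ε → ∀ v ∈ P0, ∀ w ∈ P0,
        (x : X) * ⁅v, w⁆ * (x : X)⁻¹ = ⁅v, w⁆ := by
    intro ε δ hε hδ hεδ J x hJ0 hρJ hρx v hv w hw
    have hxi : ρ x⁻¹ = 1 - ε := by
      calc ρ x⁻¹ = ρ x⁻¹ * ((1 + ε) * (1 - ε)) := by
            rw [mul_sub, mul_one (1 + ε), add_mul, one_mul ε, hε, add_zero, add_sub_cancel_right, mul_one]
        _ = 1 - ε := by rw [← mul_assoc, ← hρx, ← map_mul, inv_mul_cancel, map_one, one_mul]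
    have h := form_invariant_of_units Bf hBl hBr hε hδ hεδ
      (fun a b => by rw [← hρJ]; exact hBρ J hJ0 a b)
      (fun a b => by
        rw [← hρJ, ← hρx, ← hxi, ← map_mul, ← map_mul]
        exact hBρ _ (by simpa using hY0n _ x.2 _ hJ0) a b) (mk ⟨v, hv⟩) (mk ⟨w, hw⟩)
    rw [← hρx, hρ, hρ, hBmk, hBmk] at h
    rw [conjugate_commutatorElement]
    exact congrArg Subtype.val (Additive.ofMul.injective h)
  -- representatives inverted by `t`
  set I : Set X := {v | v ∈ P0 ∧ (t : X) * v * (t : X)⁻¹ = v⁻¹} with hI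
  have hrep : ∀ v ∈ P0, ∀ m ∈ M, (t : X) * v * (t : X)⁻¹ = m * v⁻¹ →
      ∃ r : ℕ, m ^ r * v ∈ I := by
    intro v hv m hm hmv
    obtain ⟨i, hi⟩ := hMp ⟨m, hm⟩
    obtain ⟨r, hr⟩ := hpodd.pow (n := i)
    refine ⟨r, mul_mem (pow_mem hm.1 r) hv, ?_⟩
    have hfr := hfixM _ ht0 _ (pow_mem hm r)
    have hc := hcen m hm v hv
    have hmr : m ^ r * m = (m ^ r)⁻¹ := by
      rw [eq_inv_iff_mul_eq_one, mul_assoc, ← pow_succ', ← pow_add,
        show r + (r + 1) = p ^ i by omega]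
      exact congrArg Subtype.val hi
    calc (t : X) * (m ^ r * v) * (t : X)⁻¹
        = ((t : X) * m ^ r * (t : X)⁻¹) * ((t : X) * v * (t : X)⁻¹) := by group
      _ = (m ^ r)⁻¹ * v⁻¹ := by rw [hfr, hmv, ← mul_assoc, hmr]
      _ = (m ^ r * v)⁻¹ := by rw [(hc.pow_left r).eq, mul_inv_rev]
  have huniq : ∀ i ∈ I, ∀ μ ∈ M, μ * i ∈ I → μ = 1 := by
    intro i hi μ hμ hμi
    have h1 : μ * i⁻¹ = μ⁻¹ * i⁻¹ := by
      calc μ * i⁻¹ = ((t : X) * μ * (t : X)⁻¹) * ((t : X) * i * (t : X)⁻¹) := by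
            rw [hfixM _ ht0 _ hμ, hi.2]
        _ = (t : X) * (μ * i) * (t : X)⁻¹ := by group
        _ = (μ * i)⁻¹ := hμi.2
        _ = μ⁻¹ * i⁻¹ := by rw [(hcen μ hμ i hi.1).eq, mul_inv_rev]
    have h2 : μ ^ 2 = 1 := by
      rw [sq]; nth_rw 1 [mul_right_cancel h1]; exact inv_mul_cancel _
    obtain ⟨i, hi⟩ := hMp ⟨μ, hμ⟩
    exact orderOf_eq_one_iff.1 (Nat.eq_one_of_dvd_coprimes
      (((Nat.coprime_primes Nat.prime_two hp.out).2 (Ne.symm hp2)).pow_right i)
      (orderOf_dvd_of_pow_eq_one h2) (orderOf_dvd_of_pow_eq_one (congrArg Subtype.val hi)))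
  set P1 := Subgroup.closure I with hP1
  have hP1P0 : P1 ≤ P0 := (Subgroup.closure_le _).2 fun v hv => hv.1
  have hstep : ∀ (ε δ : AddMonoid.End A), ε * ε = 0 → δ * δ = 0 → ε * δ + δ * ε = 1 →
      ∀ (J a : Y), (J : X) ∈ Y0 → ρ J = ε - δ → ρ a = 1 + ε →
      ∃ x : Y, ρ x = 1 + ε ∧ (x : X) ∈ Subgroup.normalizer (P1 : Set X) ∧
        ∀ v ∈ P1, ⁅⁅v, (x : X)⁆, (x : X)⁆ = 1 := by
    intro ε δ hε hδ hεδ J a hJ0' hρJ' hρa
    obtain ⟨x, hρx, hxt⟩ := hadj a
    rw [hρa] at hρx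
    have hxI : ∀ i ∈ I, (x : X) * i * (x : X)⁻¹ ∈ I := fun i hi =>
      ⟨hcj x x.2 i hi.1, by rw [hxt i hi.1, hi.2, conj_inv]⟩
    have hxP1 : (x : X) ∈ Subgroup.normalizer (P1 : Set X) := by
      refine Subgroup.mem_normalizer_fintype fun v hv => ?_
      have hle : P1 ≤ P1.comap (MulAut.conj (x : X)).toMonoidHom :=
        (Subgroup.closure_le _).2 fun i hi => Subgroup.subset_closure (hxI i hi)
      exact hle hv
    refine ⟨x, hρx, hxP1, ?_⟩
    set W : X → X := fun v => (x : X) * v * (x : X)⁻¹ * v⁻¹ with hWdef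
    have hWP : ∀ v ∈ P0, W v ∈ P0 := fun v hv => mul_mem (hcj x x.2 v hv) (inv_mem hv)
    let Fix : X → Prop := fun v => (x : X) * v * (x : X)⁻¹ = v
    have fmul : ∀ {u v}, Fix u → Fix v → Fix (u * v) := fun {u v} h1 h2 => by
      show (x : X) * (u * v) * (x : X)⁻¹ = _
      rw [← conj_mul, h1, h2]
    have finv : ∀ {u}, Fix u → Fix u⁻¹ := fun {u} h1 => by
      show (x : X) * u⁻¹ * (x : X)⁻¹ = _
      rw [← conj_inv, h1]
    have hfc : ∀ u ∈ P0, ∀ v ∈ P0, Fix ⁅u, v⁆ := fun u hu v hv =>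
      hfixcomm ε δ hε hδ hεδ J x hJ0' hρJ' hρx u hu v hv
    have hfix : ∀ v ∈ P1, Fix (W v) := by
      intro v hv
      induction hv using Subgroup.closure_induction with
      | mem i hi =>
        set i1 := (x : X) * i * (x : X)⁻¹ with hi1
        have hi1I := hxI i hi
        have hz : (t : X) * W i * (t : X)⁻¹ = ⁅i1⁻¹, i⁆ * (W i)⁻¹ := by
          calc (t : X) * W i * (t : X)⁻¹
              = ((t : X) * i1 * (t : X)⁻¹) * ((t : X) * i * (t : X)⁻¹)⁻¹ := by
                simp only [hWdef, hi1]; group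
            _ = i1⁻¹ * i := by rw [hi1I.2, hi.2, inv_inv]
            _ = _ := by simp only [hWdef, hi1, commutatorElement_def]; group
        obtain ⟨r, hr⟩ := hrep _ (hWP i hi.1) _ (hder _ (inv_mem hi1I.1) _ hi.1) hz
        set i' := ⁅i1⁻¹, i⁆ ^ r * W i with hi'
        have hfi' : Fix i' := by
          obtain ⟨μ, hμ, hμe⟩ : ∃ μ ∈ M, (x : X) * i' * (x : X)⁻¹ = μ * i' := by
            refine ⟨_, (hmk1 ⟨i', hr.1⟩ ⟨_, hcj x x.2 i' hr.1⟩).1 ?_, (inv_mul_cancel_right _ _).symm⟩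
            rw [← hρ x ⟨i', hr.1⟩, hρx]
            have hmr : ⁅i1⁻¹, i⁆ ^ r ∈ M := pow_mem (hder _ (inv_mem hi1I.1) _ hi.1) r
            have e1 : mk ⟨i', hr.1⟩ = mk ⟨W i, hWP i hi.1⟩ := by
              refine (hmk1 _ _).2 ?_
              show W i * (⁅i1⁻¹, i⁆ ^ r * W i)⁻¹ ∈ M
              rw [mul_inv_rev, mul_inv_cancel_left]
              exact inv_mem hmr
            have e : mk ⟨W i, hWP i hi.1⟩ = ε (mk ⟨i, hi.1⟩) := by
              have h1 : ρ x (mk ⟨i, hi.1⟩) = mk ⟨W i, hWP i hi.1⟩ + mk ⟨i, hi.1⟩ := by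
                rw [hρ]
                exact congrArg mk (Subtype.ext (by simp [hWdef]) :
                  (⟨_, hcj x x.2 i hi.1⟩ : P0) = ⟨W i, hWP i hi.1⟩ * ⟨i, hi.1⟩)
              rw [hρx] at h1
              exact (add_right_cancel (h1.symm.trans (add_comm _ _))).trans rfl
            rw [e1, e]
            show _ = ε (mk ⟨i, hi.1⟩) + ε (ε (mk ⟨i, hi.1⟩))
            rw [show ε (ε (mk ⟨i, hi.1⟩)) = 0 from
              congrArg (fun q : AddMonoid.End A => q (mk ⟨i, hi.1⟩)) hε, add_zero]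
          have h1 := huniq i' hr μ hμ (hμe ▸ hxI i' hr)
          rw [h1, one_mul] at hμe
          exact hμe
        have hzr : ∀ n : ℕ, Fix (⁅i1⁻¹, i⁆ ^ n) := fun n => by
          show (x : X) * _ * (x : X)⁻¹ = _
          rw [← conj_pow, hfc _ (inv_mem hi1I.1) _ hi.1]
        have := fmul (finv (hzr r)) hfi'
        rwa [hi', inv_mul_cancel_left] at this
      | one =>
        show (x : X) * W 1 * (x : X)⁻¹ = W 1
        simp [hWdef]
      | mul u v hu hv ihu ihv =>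
        have hu0 := hP1P0 hu
        have hv0 := hP1P0 hv
        have e : W (u * v) = W u * ⁅u, W v⁆ * W v := by
          simp only [hWdef, commutatorElement_def]; group
        rw [e]
        exact fmul (fmul ihu (hfc u hu0 _ (hWP v hv0))) ihv
      | inv u hu ihu =>
        have hu0 := hP1P0 hu
        have e : W u⁻¹ = ⁅u⁻¹, (W u)⁻¹⁆ * (W u)⁻¹ := by
          simp only [hWdef, commutatorElement_def]; group
        rw [e]
        exact fmul (hfc _ (inv_mem hu0) _ (inv_mem (hWP u hu0))) (finv ihu)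
    intro v hv
    rw [commutatorElement_eq_one_iff_commute]
    have h3 : Commute (x : X) (W v) := mul_inv_eq_iff_eq_mul.1 (hfix v hv)
    have e : ⁅v, (x : X)⁆ = (W v)⁻¹ := by simp only [hWdef, commutatorElement_def]; group
    rw [e]
    exact h3.symm.inv_left
  obtain ⟨x1, hρ1, hn1', hq1⟩ := hstep α γ hα hγ hαγ J gY hJ0 hρJ hρg
  have hρJi : ρ J⁻¹ = γ - α := by
    calc ρ J⁻¹ = ρ J⁻¹ * (-((α - γ) * (α - γ))) := by rw [hsq, neg_neg, mul_one]
      _ = -(ρ J⁻¹ * ρ J * (α - γ)) := by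
        rw [hρJ, mul_assoc (ρ J⁻¹)]
        exact AddMonoidHom.ext fun a => map_neg (ρ J⁻¹) _
      _ = γ - α := by rw [← map_mul, inv_mul_cancel, map_one, one_mul, neg_sub]
  obtain ⟨x2, hρ2, hn2', hq2⟩ := hstep γ α hγ hα (by rw [add_comm, hαγ]) J⁻¹ eY (inv_mem hJ0) hρJi hρe
  have hP1p : IsPGroup p P1 := hP0p.to_le hP1P0
  set C := (Subgroup.centralizer (P1 : Set X)).subgroupOf (Subgroup.normalizer (P1 : Set X))
  haveI : C.Normal := by
    rw [show C = (Subgroup.normalizerMonoidHom P1).ker from (Subgroup.normalizerMonoidHom_ker P1).symm]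
    infer_instance
  let π := QuotientGroup.mk' C
  let n1 : Subgroup.normalizer (P1 : Set X) := ⟨x1, hn1'⟩
  let n2 : Subgroup.normalizer (P1 : Set X) := ⟨x2, hn2'⟩
  have hm1 : π n1 ∈ pCore p _ := hst P1 hP1p _ n1.2 (CfsgLib.ThompsonJ.quadratic_zpowers_iff.2 hq1)
  have hm2 : π n2 ∈ pCore p _ := hst P1 hP1p _ n2.2 (CfsgLib.ThompsonJ.quadratic_zpowers_iff.2 hq2)
  have hmem : π ((n1 * n2 ^ (p - 1) * n1) * (n1 * n2 ^ (p - 1) * n1)) ∈ pCore p _ := by
    simp only [map_mul, map_pow]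
    exact mul_mem (mul_mem (mul_mem hm1 (pow_mem hm2 _)) hm1) (mul_mem (mul_mem hm1 (pow_mem hm2 _)) hm1)
  obtain ⟨i, hi⟩ := CfsgLib.Cores.isPGroup_pCore p _ ⟨_, hmem⟩
  have hi' : ((((n1 * n2 ^ (p - 1) * n1) * (n1 * n2 ^ (p - 1) * n1)) ^ p ^ i :
      Subgroup.normalizer (P1 : Set X)) : X) ∈ Subgroup.centralizer (P1 : Set X) := by
    refine Subgroup.mem_subgroupOf.1 ((QuotientGroup.eq_one_iff _).1 ?_ : _ ∈ C)
    have := congrArg Subtype.val hi
    simpa [π, map_pow] using this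
  set s : Y := (x1 * x2 ^ (p - 1) * x1) * (x1 * x2 ^ (p - 1) * x1) with hs
  have hρs : ρ s = -1 := by
    simp only [hs, map_mul, map_pow, hρ1, hρ2, hneg hγ, hw, hsq]
  have hs1 : ρ (s ^ p ^ i) = 1 := by
    refine AddMonoidHom.ext ?_
    rintro ⟨v⟩
    obtain ⟨r, hr⟩ := hrep v v.2 _ (htM v v.2) (by group)
    have hmr : ((t : X) * v * (t : X)⁻¹ * v) ^ r ∈ M := pow_mem (htM v v.2) r
    have e1 : mk v = mk ⟨_, hr.1⟩ := (hmk1 _ _).2 (by
      show _ * _ * (v : X)⁻¹ ∈ M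
      rwa [mul_inv_cancel_right])
    show ρ (s ^ p ^ i) (mk v) = mk v
    rw [e1, hρ]
    refine congrArg mk (Subtype.ext ?_)
    have := (Subgroup.mem_centralizer_iff.1 hi') _ (Subgroup.subset_closure hr)
    refine mul_inv_eq_iff_eq_mul.2 ?_
    simpa [hs, n1, n2] using this.symm
  rw [map_pow, hρs] at hs1
  replace hs1 : (-1 : AddMonoid.End A) = 1 :=
    ((hpodd.pow (n := i)).neg_one_pow (α := AddMonoid.End A)).symm.trans hs1
  refine hα0 (AddMonoidHom.ext fun a => ?_)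
  have h1 : -(α a) = α a := congrArg (fun f : AddMonoid.End A => f (α a)) hs1
  have h2 : 2 • α a = 0 := by rw [two_nsmul]; nth_rw 1 [← h1]; exact neg_add_cancel _
  have hd2 : addOrderOf (α a) = 1 := Nat.eq_one_of_dvd_coprimes
    ((Nat.coprime_primes Nat.prime_two hp.out).2 (Ne.symm hp2))
    (addOrderOf_dvd_of_nsmul_eq_zero h2) (addOrderOf_dvd_of_nsmul_eq_zero (hAp _))
  exact AddMonoid.addOrderOf_eq_one_iff.1 hd2

/-- `p`-stability (`p` odd) passes to the quotient by a normal `p`-subgroup that every element of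
order prime to `p` centralises. -/
theorem isNormalizerPStable_quotient_of_centralized_odd (hp2 : p ≠ 2) (hst : IsNormalizerPStable p X)
    (Q : Subgroup X) [Q.Normal] (hQ : IsPGroup p Q)
    (hcent : ∀ d : X, (orderOf d).Coprime p → d ∈ Subgroup.centralizer (Q : Set X)) :
    IsNormalizerPStable p (X ⧸ Q) := by
  classical
  intro Pb hPb gb hgb hq
  let P := Pb.comap (QuotientGroup.mk' Q)
  have hP : IsPGroup p P := hPb.comap_of_ker_isPGroup _ (by rwa [QuotientGroup.ker_mk'])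
  have hqb := CfsgLib.ThompsonJ.quadratic_zpowers_iff.1 hq
  set N := Subgroup.normalizer (Pb : Set (X ⧸ Q))
  set C := (Subgroup.centralizer (Pb : Set (X ⧸ Q))).subgroupOf N
  haveI : C.Normal := by
    rw [show C = (Subgroup.normalizerMonoidHom Pb).ker from (Subgroup.normalizerMonoidHom_ker Pb).symm]
    infer_instance
  let π := QuotientGroup.mk' C
  refine CfsgLib.Subnormal.mem_pCore_of_forall_closure_pair fun q => ?_
  obtain ⟨n, rfl⟩ := QuotientGroup.mk'_surjective C q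
  let g' : N := ⟨gb, hgb⟩
  intro r
  have hr : (r : N ⧸ C) ∈ (Subgroup.closure ({g', n * g' * n⁻¹} : Set N)).map π := by
    rw [MonoidHom.map_closure, Set.image_pair, map_mul, map_mul, map_inv]
    exact r.2
  obtain ⟨c, hc, hcr⟩ := hr
  obtain ⟨g, hgeq⟩ := QuotientGroup.mk'_surjective Q gb
  obtain ⟨m, hmeq⟩ := QuotientGroup.mk'_surjective Q (n : X ⧸ Q)
  have hnorm : ∀ x : X, QuotientGroup.mk' Q x ∈ N → x ∈ Subgroup.normalizer (P : Set X) := fun x hx =>
    Subgroup.mem_normalizer_fintype fun v hv => by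
      have := (Subgroup.mem_normalizer_iff.1 hx (QuotientGroup.mk' Q v)).1 hv
      rw [← map_mul, ← map_inv, ← map_mul] at this
      exact this
  have hg : g ∈ Subgroup.normalizer (P : Set X) := hnorm g (by rw [hgeq]; exact hgb)
  have hh : m * g * m⁻¹ ∈ Subgroup.normalizer (P : Set X) := hnorm _ (by
    rw [map_mul, map_mul, map_inv, hgeq, hmeq]; exact (n * g' * n⁻¹).2)
  have hQd : ∀ (d y : X), QuotientGroup.mk' Q y = 1 → (orderOf d).Coprime p → Commute d y :=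
    fun d y hy hd => ((Subgroup.mem_centralizer_iff.1 (hcent d hd)) y
      ((QuotientGroup.eq_one_iff y).1 hy)).symm
  obtain ⟨c', hc', hc'eq⟩ : (c : X ⧸ Q) ∈
      (Subgroup.closure ({g, m * g * m⁻¹} : Set X)).map (QuotientGroup.mk' Q) := by
    rw [MonoidHom.map_closure, Set.image_pair, map_mul, map_mul, map_inv, hgeq, hmeq]
    have := Subgroup.mem_map_of_mem N.subtype hc
    rwa [MonoidHom.map_closure, Set.image_pair] at this
  obtain ⟨k, hk⟩ := exists_pow_mem_centralizer_of_stable_odd hp2 hst hP hg hh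
    (fun v hv d _ hd => hQd d _ (by
      rw [map_commutatorElement, map_commutatorElement, hgeq]
      exact hqb _ hv) hd)
    (fun v hv d _ hd => hQd d _ (by
      rw [map_commutatorElement, map_commutatorElement, map_mul, map_mul, map_inv, hgeq, hmeq]
      have hv' : (n : X ⧸ Q)⁻¹ * QuotientGroup.mk' Q v * n ∈ Pb :=
        (Subgroup.mem_normalizer_iff''.1 n.2 _).1 hv
      have h1 := congrArg (fun t => (n : X ⧸ Q) * t * (n : X ⧸ Q)⁻¹) (hqb _ hv')
      simp only [commutatorElement_def, mul_one, mul_inv_cancel] at h1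
      rw [← h1]
      simp only [commutatorElement_def]
      group) hd) hc'
  refine ⟨k, Subtype.ext ?_⟩
  rw [SubmonoidClass.coe_pow, ← hcr, ← map_pow]
  refine (QuotientGroup.eq_one_iff _).2 (Subgroup.mem_subgroupOf.2 (Subgroup.mem_centralizer_iff.2 ?_))
  intro vb hvb
  obtain ⟨v, rfl⟩ := QuotientGroup.mk'_surjective Q vb
  have h1 := congrArg (QuotientGroup.mk' Q) ((Subgroup.mem_centralizer_iff.1 hk) v hvb)
  rw [map_mul, map_mul, map_pow, hc'eq] at h1
  simpa using h1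

/-- For odd `p` the `p`-stable groups form a stable class. -/
theorem isStableClass_isNormalizerPStable_odd (hp2 : p ≠ 2) :
    CfsgLib.QdFree.IsStableClass.{u} p (fun H _ _ => IsNormalizerPStable p H) :=
  ⟨fun _ _ _ M h => CfsgLib.Replacement.isNormalizerPStable_subgroup M h,
    fun _ _ _ Q _ hQ hc h => isNormalizerPStable_quotient_of_centralized_odd hp2 h Q hQ hc,
    fun _ _ _ h => h⟩

end CfsgLib.Cores
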