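import Cfsg.Agent.S2792
import Cfsg.Agent.Lib.TwoGroups.Basic
import Cfsg.Agent.Lib.PGroups.Frattini
import Mathlib.GroupTheory.PGroup

/-!
Yoshida's argument for a cocycle: if a homomorphism to an elementary abelian group is prescribed at the
fixed points of an action of a `p`-group on a set of size prime to `p`, and the product of the cocycle
is trivial at an element, some iterated commutator escapes the Frattini subgroup of a maximal subgroup.
-/

set_option autoImplicit false
set_option linter.style.haveILetI false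
set_option linter.unusedSectionVars false

namespace CfsgLib.Cores

variable {S T A : Type*} [Group S] [Finite S] [MulAction S T] [Fintype T] [CommGroup A]
  {f : S → T → A}

theorem cocycle_one (hf : ∀ u v y, f (u * v) y = f v y * f u (v • y)) (y : T) : f 1 y = 1 := by
  have h := hf 1 1 y
  rw [one_mul, one_smul] at h
  exact mul_eq_left.1 h.symm

theorem cocycle_pow (hf : ∀ u v y, f (u * v) y = f v y * f u (v • y)) (u : S) (y : T) :
    ∀ n : ℕ, f (u ^ n) y = ∏ j ∈ Finset.range n, f u (u ^ j • y) := by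
  intro n
  induction n with
  | zero => rw [pow_zero, cocycle_one hf, Finset.range_zero, Finset.prod_empty]
  | succ n ih => rw [pow_succ', hf, ih, Finset.prod_range_succ]

/-- Over an invariant set only the fixed points count, if the proper cycles are killed. -/
theorem prod_eq_prod_fixed [DecidableEq T] {p : ℕ} [Fact p.Prime] (hS : IsPGroup p S)
    (hf : ∀ u v y, f (u * v) y = f v y * f u (v • y)) (u : S)
    (hkill : ∀ (q : ℕ) (y : T), p ∣ q → u ^ q • y = y → f (u ^ q) y = 1) :
    ∀ R : Finset T, (∀ y ∈ R, u • y ∈ R) →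
      ∏ y ∈ R, f u y = ∏ y ∈ R.filter (fun y => u • y = y), f u y := by
  intro R
  induction R using Finset.strongInduction with
  | _ R ih =>
  intro hR
  by_cases hall : ∀ y ∈ R, u • y = y
  · rw [Finset.filter_true_of_mem hall]
  push Not at hall
  obtain ⟨y, hy, hyne⟩ := hall
  have hfin : IsOfFinOrder u := isOfFinOrder_of_finite u
  have hex : ∃ q, 0 < q ∧ u ^ q • y = y := ⟨orderOf u, orderOf_pos u, by rw [pow_orderOf_eq_one, one_smul]⟩
  classical
  let q := Nat.find hex
  obtain ⟨hq0, hqy⟩ : 0 < q ∧ u ^ q • y = y := Nat.find_spec hex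
  have hper : ∀ k, (u ^ q) ^ k • y = y := by
    intro k
    induction k with
    | zero => rw [pow_zero, one_smul]
    | succ k ihk => rw [pow_succ, mul_smul, hqy, ihk]
  have hmod : ∀ n, u ^ n • y = u ^ (n % q) • y := fun n => by
    conv_lhs => rw [← Nat.mod_add_div n q]
    rw [pow_add, mul_smul, pow_mul, hper]
  have hpq : p ∣ q := by
    have hdvd : q ∣ orderOf u := by
      refine Nat.dvd_of_mod_eq_zero ?_
      by_contra hne
      exact Nat.find_min hex (Nat.mod_lt _ hq0) ⟨Nat.pos_of_ne_zero hne, by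
        rw [← hmod, pow_orderOf_eq_one, one_smul]⟩
    obtain ⟨k, hk⟩ := hS u
    obtain ⟨i, -, hi⟩ := (Nat.dvd_prime_pow (Fact.out : p.Prime)).1
      (hdvd.trans (orderOf_dvd_of_pow_eq_one hk))
    rcases Nat.eq_zero_or_pos i with h | h
    · rw [hi, h, pow_zero, pow_one] at hqy
      exact absurd hqy hyne
    · rw [hi]
      exact dvd_pow_self p h.ne'
  set C : Finset T := (Finset.range q).image fun j => u ^ j • y with hC
  have hCmem : ∀ n, u ^ n • y ∈ C := fun n =>
    Finset.mem_image.2 ⟨n % q, Finset.mem_range.2 (Nat.mod_lt _ hq0), (hmod n).symm⟩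
  have hCR : C ⊆ R := by
    intro x hx
    obtain ⟨j, -, rfl⟩ := Finset.mem_image.1 hx
    clear hx
    induction j with
    | zero => rwa [pow_zero, one_smul]
    | succ j ihj => rw [pow_succ', mul_smul]; exact hR _ ihj
  have hinj : Set.InjOn (fun j => u ^ j • y) (Finset.range q : Set ℕ) := by
    have key : ∀ i j, i < j → j < q → u ^ i • y ≠ u ^ j • y := by
      intro i j hij hj h
      refine Nat.find_min hex (show j - i < q by omega) ⟨by omega, ?_⟩
      refine MulAction.injective (u ^ i) ?_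
      show u ^ i • u ^ (j - i) • y = u ^ i • y
      rw [← mul_smul, ← pow_add, Nat.add_sub_cancel' hij.le, h]
    intro i hi j hj h
    rw [Finset.coe_range, Set.mem_Iio] at hi hj
    rcases lt_trichotomy i j with h' | h' | h'
    · exact absurd h (key i j h' hj)
    · exact h'
    · exact absurd h.symm (key j i h' hi)
  have hCprod : ∏ x ∈ C, f u x = 1 := by
    rw [hC, Finset.prod_image hinj, ← cocycle_pow hf]
    exact hkill q y hpq hqy
  have hRC : ∀ x ∈ R \ C, u • x ∈ R \ C := fun x hx => by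
    rw [Finset.mem_sdiff] at hx ⊢
    refine ⟨hR x hx.1, fun h => hx.2 ?_⟩
    obtain ⟨j, -, hj⟩ := Finset.mem_image.1 h
    obtain ⟨n, hn⟩ : ∃ n, orderOf u = n + 1 := ⟨orderOf u - 1, by have := orderOf_pos u; omega⟩
    have : x = u ^ (n + j) • y := by
      rw [pow_add, mul_smul, hj, ← mul_smul, ← pow_succ, ← hn, pow_orderOf_eq_one, one_smul]
    rw [this]
    exact hCmem _
  have hssub : R \ C ⊂ R := Finset.sdiff_ssubset hCR ⟨y, by simpa using hCmem 0⟩
  have hfil : (R \ C).filter (fun x => u • x = x) = R.filter (fun x => u • x = x) := by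
    ext x
    simp only [Finset.mem_filter, Finset.mem_sdiff]
    refine ⟨fun h => ⟨h.1.1, h.2⟩, fun h => ⟨⟨h.1, fun hx => hyne ?_⟩, h.2⟩⟩
    obtain ⟨j, -, rfl⟩ := Finset.mem_image.1 hx
    have h2 := h.2
    rw [← mul_smul, ← pow_succ', pow_succ, mul_smul] at h2
    exact MulAction.injective _ h2
  rw [← Finset.prod_sdiff hCR, hCprod, mul_one, ih _ hssub hRC, hfil]

/-- The iterated commutator produced by Yoshida's argument. -/
theorem exists_iterate_of_cocycle {p : ℕ} [hp : Fact p.Prime] (hS : IsPGroup p S)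
    (hA : ∀ a : A, a ^ p = 1) (hf : ∀ u v y, f (u * v) y = f v y * f u (v • y)) (θ : S →* A)
    (hfix : ∀ y, (∀ v : S, v • y = y) → ∀ v, f v y = θ v) (hn : ¬ p ∣ Nat.card T) (u : S)
    (hkill : ∀ (q : ℕ) (y : T), p ∣ q → u ^ q • y = y → f (u ^ q) y = 1) (hu : θ u ≠ 1)
    (htot : ∏ y, f u y = 1) :
    ∃ (z : S) (M : Subgroup S), IsCoatom M ∧ (fun y : S => y⁻¹ * z⁻¹ * y * z)^[p - 1] u ∈ M ∧
      (fun y : S => y⁻¹ * z⁻¹ * y * z)^[p - 1] u ∉ (frattini ↥M).map M.subtype := by
  classical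
  -- an orbit with nontrivial product
  obtain ⟨y₀, hy₀, hO⟩ : ∃ y₀ : T, ¬ (∀ v : S, v • y₀ = y₀) ∧
      ∏ y ∈ (MulAction.orbit S y₀).toFinset, f u y ≠ 1 := by
    by_contra hall
    push Not at hall
    have hne : ∏ y ∈ Finset.univ.filter (fun y : T => ¬ ∀ v : S, v • y = y), f u y = 1 := by
      have hgen : ∀ R : Finset T, (∀ y ∈ R, (¬ ∀ v : S, v • y = y) ∧ ∀ v : S, v • y ∈ R) →
          ∏ y ∈ R, f u y = 1 := by
        intro R
        induction R using Finset.strongInduction with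
        | _ R ih =>
        intro hR
        rcases R.eq_empty_or_nonempty with rfl | ⟨y, hy⟩
        · rfl
        set O := (MulAction.orbit S y).toFinset with hOdef
        have hOR : O ⊆ R := fun x hx => by
          obtain ⟨v, rfl⟩ := Set.mem_toFinset.1 hx
          exact (hR y hy).2 v
        rw [← Finset.prod_sdiff hOR, hall y (not_forall.1 (hR y hy).1), mul_one]
        refine ih _ (Finset.sdiff_ssubset hOR ⟨y, Set.mem_toFinset.2 (MulAction.mem_orbit_self y)⟩)
          fun x hx => ?_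
        rw [Finset.mem_sdiff] at hx
        refine ⟨(hR x hx.1).1, fun v => Finset.mem_sdiff.2 ⟨(hR x hx.1).2 v, fun h => hx.2 ?_⟩⟩
        obtain ⟨w, hw⟩ := Set.mem_toFinset.1 h
        exact Set.mem_toFinset.2 ⟨v⁻¹ * w, show (v⁻¹ * w) • y = x by
          rw [mul_smul, show w • y = v • x from hw, inv_smul_smul]⟩
      refine hgen _ fun y hy => ⟨(Finset.mem_filter.1 hy).2, fun v => Finset.mem_filter.2
        ⟨Finset.mem_univ _, fun h => (Finset.mem_filter.1 hy).2 fun w => ?_⟩⟩
      have h2 := h (v * w * v⁻¹)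
      rw [← mul_smul, inv_mul_cancel_right, mul_smul] at h2
      exact MulAction.injective v h2
    rw [← Finset.prod_filter_mul_prod_filter_not Finset.univ (fun y : T => ∀ v : S, v • y = y), hne,
      mul_one, Finset.prod_congr rfl fun y hy => hfix y (Finset.mem_filter.1 hy).2 u,
      Finset.prod_const] at htot
    have hcard := hS.card_modEq_card_fixedPoints T
    rw [show Nat.card (MulAction.fixedPoints S T) =
      (Finset.univ.filter fun y : T => ∀ v : S, v • y = y).card by
        rw [Nat.card_eq_card_toFinset]; congr 1; ext y; simp [MulAction.mem_fixedPoints]] at hcard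
    set d := (Finset.univ.filter fun y : T => ∀ v : S, v • y = y).card
    have hd : ¬ p ∣ d := fun h => hn (hcard.dvd_iff dvd_rfl |>.2 h)
    have h1 : θ u ^ Nat.gcd p d = 1 := pow_gcd_eq_one.mpr ⟨hA _, htot⟩
    rw [hp.out.coprime_iff_not_dvd.2 hd, pow_one] at h1
    exact hu h1
  set P := MulAction.stabilizer S y₀ with hP
  obtain ⟨M, hM, hPM⟩ := (eq_top_or_exists_le_coatom P).resolve_left fun e => hy₀ fun v =>
    MulAction.mem_stabilizer_iff.1 ((SetLike.ext_iff.1 e v).2 (Subgroup.mem_top v))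
  haveI hMn := CfsgLib.TwoGroups.normal_of_isCoatom hS hM
  have hMi := CfsgLib.TwoGroups.index_eq_of_isCoatom hS hM
  -- `u` lies in `M`
  have huM : u ∈ M := by
    by_contra huM
    refine hO ?_
    rw [prod_eq_prod_fixed hS hf u hkill _ fun y hy => by
      obtain ⟨v, rfl⟩ := Set.mem_toFinset.1 hy
      exact Set.mem_toFinset.2 ⟨u * v, mul_smul u v y₀⟩]
    refine Finset.prod_eq_one fun y hy => absurd ?_ huM
    obtain ⟨hy1, hy2⟩ := Finset.mem_filter.1 hy
    obtain ⟨v, rfl⟩ := Set.mem_toFinset.1 hy1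
    have h1 : v⁻¹ * u * v ∈ P := by
      show (v⁻¹ * u * v) • y₀ = y₀
      rw [mul_smul, mul_smul, hy2, inv_smul_smul]
    simpa [mul_assoc] using hMn.conj_mem _ (hPM h1) v
  obtain ⟨z, hz⟩ : ∃ z, z ∉ M := by
    by_contra h
    push Not at h
    exact hM.1 (eq_top_iff.2 fun x _ => h x)
  set O₀ := (MulAction.orbit M y₀).toFinset with hO₀
  have hO₀mem : ∀ {y}, y ∈ O₀ ↔ ∃ m ∈ M, m • y₀ = y := by
    intro y
    rw [hO₀, Set.mem_toFinset]
    exact ⟨fun ⟨m, hm⟩ => ⟨m, m.2, hm⟩, fun ⟨m, hm, h⟩ => ⟨⟨m, hm⟩, h⟩⟩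
  have hO₀smul : ∀ m ∈ M, ∀ y ∈ O₀, m • y ∈ O₀ := fun m hm y hy => by
    obtain ⟨n, hn', rfl⟩ := hO₀mem.1 hy
    exact hO₀mem.2 ⟨m * n, mul_mem hm hn', mul_smul m n y₀⟩
  have hperm : ∀ m ∈ M, ∀ g : T → A, ∏ y ∈ O₀, g (m • y) = ∏ y ∈ O₀, g y := fun m hm g =>
    Finset.prod_nbij (fun y => m • y) (hO₀smul m hm) (MulAction.injective m).injOn
      (fun y hy => ⟨m⁻¹ • y, hO₀smul _ (inv_mem hm) y hy, smul_inv_smul m y⟩) fun _ _ => rfl
  let χ : M →* A :=
    { toFun := fun m => ∏ y ∈ O₀, f m y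
      map_one' := Finset.prod_eq_one fun y _ => cocycle_one hf y
      map_mul' := fun a b => by
        show ∏ y ∈ O₀, f ((a : S) * b) y = _
        rw [Finset.prod_congr rfl fun y _ => hf a b y, Finset.prod_mul_distrib,
          hperm b b.2 (fun y => f a y), mul_comm] }
  let c : M →* M :=
    { toFun := fun m => ⟨z⁻¹ * m * z, by simpa using hMn.conj_mem _ m.2 z⁻¹⟩
      map_one' := Subtype.ext (by simp)
      map_mul' := fun a b => Subtype.ext (by simp [mul_assoc]) }
  have hciter : ∀ i : ℕ, ((c^[i] ⟨u, huM⟩ : M) : S) = (z ^ i)⁻¹ * u * z ^ i := by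
    intro i
    induction i with
    | zero => simp
    | succ i ih =>
      rw [Function.iterate_succ_apply']
      show z⁻¹ * ((c^[i] ⟨u, huM⟩ : M) : S) * z = _
      rw [ih, pow_succ]
      group
  have hzord : orderOf (QuotientGroup.mk' M z) = p := by
    haveI : Fact (Nat.card (S ⧸ M)).Prime := ⟨by rw [← Subgroup.index_eq_card, hMi]; exact hp.out⟩
    have h1 : orderOf (QuotientGroup.mk' M z) ∣ p := by
      rw [← hMi, Subgroup.index_eq_card]; exact orderOf_dvd_natCard _
    exact (hp.out.eq_one_or_self_of_dvd _ h1).resolve_left fun h =>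
      hz ((QuotientGroup.eq_one_iff z).1 (orderOf_eq_one_iff.1 h))
  have hsplit : ∏ y ∈ (MulAction.orbit S y₀).toFinset, f u y =
      ∏ i ∈ Finset.range p, ∏ y ∈ O₀, f u (z ^ i • y) := by
    rw [← Finset.prod_product']
    symm
    refine Finset.prod_nbij (fun iy => z ^ iy.1 • iy.2) ?_ ?_ ?_ fun _ _ => rfl
    · intro iy hiy
      obtain ⟨m, -, hm⟩ := hO₀mem.1 (Finset.mem_product.1 hiy).2
      exact Set.mem_toFinset.2 ⟨z ^ iy.1 * m, show (z ^ iy.1 * m) • y₀ = z ^ iy.1 • iy.2 by rw [mul_smul, hm]⟩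
    · rintro ⟨i, y⟩ hi ⟨j, y'⟩ hj h
      rw [Finset.mem_coe, Finset.mem_product, Finset.mem_range] at hi hj
      obtain ⟨m, hm, rfl⟩ := hO₀mem.1 hi.2
      obtain ⟨m', hm', rfl⟩ := hO₀mem.1 hj.2
      simp only at h hi hj
      have h1 : (z ^ i * m)⁻¹ * (z ^ j * m') ∈ M := hPM (by
        show ((z ^ i * m)⁻¹ * (z ^ j * m')) • y₀ = y₀
        rw [mul_smul, inv_smul_eq_iff, mul_smul, mul_smul, h])
      have h2 : QuotientGroup.mk' M z ^ i = QuotientGroup.mk' M z ^ j := by
        have h3 : QuotientGroup.mk' M ((z ^ i * m)⁻¹ * (z ^ j * m')) = 1 :=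
          (QuotientGroup.eq_one_iff _).2 h1
        rw [map_mul, map_inv, map_mul, map_mul, show QuotientGroup.mk' M m = 1 from
          (QuotientGroup.eq_one_iff _).2 hm, show QuotientGroup.mk' M m' = 1 from
          (QuotientGroup.eq_one_iff _).2 hm', mul_one, mul_one, inv_mul_eq_one, map_pow, map_pow] at h3
        exact h3
      have hij : i = j := pow_injOn_Iio_orderOf (Set.mem_Iio.2 (by rw [hzord]; exact hi.1))
        (Set.mem_Iio.2 (by rw [hzord]; exact hj.1)) h2
      subst hij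
      exact Prod.ext rfl (MulAction.injective _ h)
    · intro y hy
      obtain ⟨g, rfl⟩ := Set.mem_toFinset.1 (Finset.mem_coe.1 hy)
      haveI : Fact p.Prime := hp
      have htop : Subgroup.zpowers (QuotientGroup.mk' M z) = ⊤ :=
        Subgroup.eq_top_of_card_eq _ (by rw [Nat.card_zpowers, hzord, ← hMi, Subgroup.index_eq_card])
      obtain ⟨i, hi, hie⟩ := Finset.mem_image.1 (mem_zpowers_iff_mem_range_orderOf.1
        (htop ▸ Subgroup.mem_top (QuotientGroup.mk' M g)))
      rw [hzord] at hi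
      have hm : (z ^ i)⁻¹ * g ∈ M := by
        refine (QuotientGroup.eq_one_iff _).1 ?_
        show QuotientGroup.mk' M _ = 1
        rw [map_mul, map_inv, map_pow, hie, inv_mul_cancel]
      exact ⟨(i, ((z ^ i)⁻¹ * g) • y₀), Finset.mem_coe.2 (Finset.mem_product.2
        ⟨hi, hO₀mem.2 ⟨_, hm, rfl⟩⟩), by
        show z ^ i • ((z ^ i)⁻¹ * g) • y₀ = g • y₀
        rw [← mul_smul, mul_inv_cancel_left]⟩
  have hblock : ∀ i : ℕ, ∏ y ∈ O₀, f u (z ^ i • y) = χ (c^[i] ⟨u, huM⟩) := by
    intro i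
    set u' := c^[i] ⟨u, huM⟩
    have hcomm : u * z ^ i = z ^ i * (u' : S) := by rw [hciter]; group
    have h1 : ∀ y, f (z ^ i) y * f u (z ^ i • y) = f u' y * f (z ^ i) ((u' : S) • y) := fun y => by
      rw [← hf, ← hf, hcomm]
    have h2 := Finset.prod_congr rfl (fun y (_ : y ∈ O₀) => h1 y)
    rw [Finset.prod_mul_distrib, Finset.prod_mul_distrib, hperm _ u'.2 (fun y => f (z ^ i) y),
      mul_comm (∏ y ∈ O₀, f (↑u') y)] at h2
    exact mul_left_cancel h2
  rw [hsplit, Finset.prod_congr rfl fun i _ => hblock i,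
    Cfsg.Agent.S2792.prod_conj_eq_iterate hA χ c ⟨u, huM⟩] at hO
  have hval : ∀ k : ℕ, (((fun y => y⁻¹ * c y)^[k] ⟨u, huM⟩ : M) : S) =
      (fun y : S => y⁻¹ * z⁻¹ * y * z)^[k] u := by
    intro k
    induction k with
    | zero => rfl
    | succ k ih =>
      rw [Function.iterate_succ_apply', Function.iterate_succ_apply', ← ih]
      show _ * (z⁻¹ * _ * z) = _
      simp only [mul_assoc, Subgroup.coe_inv]
  refine ⟨z, M, hM, hval (p - 1) ▸ SetLike.coe_mem _, fun hmem => hO ?_⟩
  obtain ⟨w, hw, hwe⟩ := hmem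
  have hker : frattini M ≤ χ.ker := CfsgLib.PGroups.frattini_le_of (p := p)
    (Abelianization.commutator_subset_ker χ)
    fun x => by rw [MonoidHom.mem_ker, map_pow]; exact hA _
  have hww : (fun y => y⁻¹ * c y)^[p - 1] ⟨u, huM⟩ = w := Subtype.ext ((hval _).trans hwe.symm)
  rw [hww]
  exact MonoidHom.mem_ker.1 (hker hw)

end CfsgLib.Cores
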